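import Groth.Agent.An.H863.PtsBasic
import Mathlib.RingTheory.NoetherNormalization
import Mathlib.AlgebraicGeometry.Artinian
import Mathlib.Analysis.Complex.Cardinality

/-!
# Discreteness of the space of complex points

* `finiteType_strU`: the structure map ℂ → Γ(X, U) of an affine open is of finite type;
* `continuous_val_induced`: the topology of U(ℂ) is coarser than the one induced by the values of
  finitely many generators of Γ(X, U);
* `countable_of_discreteTopology`: if X(ℂ) is discrete, then U(ℂ) is countable;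
* `isArtinianRing_of_countable`: if U(ℂ) is countable, then Γ(X, U) is Artinian.
-/

set_option autoImplicit false
open CategoryTheory AlgebraicGeometry Topology TopologicalSpace Opposite

noncomputable section

namespace Groth.Agent.An.H864.Discrete

open Groth.Agent.An.H863.PtsBasic

variable {X : Scheme.{0}} [X.Over An.SC]

lemma strU_eq (U : X.Opens) : strU U =
    ((X ↘ An.SC).appLE ⊤ U le_top).hom.comp (Scheme.ΓSpecIso (CommRingCat.of ℂ)).inv.hom := by
  ext c
  change X.presheaf.map (homOfLE (le_top : U ≤ ⊤)).op ((X ↘ An.SC).appTop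
    ((Scheme.ΓSpecIso (CommRingCat.of ℂ)).inv c)) = _
  rfl

lemma finiteType_strU [LocallyOfFiniteType (X ↘ An.SC)] {U : X.Opens} (hU : IsAffineOpen U) :
    (strU U).FiniteType := by
  rw [strU_eq]
  refine RingHom.FiniteType.comp
    (LocallyOfFiniteType.finiteType_appLE (X ↘ An.SC) (isAffineOpen_top _) hU le_top) ?_
  exact RingHom.FiniteType.of_surjective _
    (Scheme.ΓSpecIso (CommRingCat.of ℂ)).symm.commRingCatIsoToRingEquiv.surjective

/-- The set of complex points in U. -/
abbrev PtsIn (U : X.Opens) : Type := {x : An.Pts X // x.pt ∈ U}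

/-- The values at complex points of U of a family of sections over U. -/
def vals (U : X.Opens) (s : Set Γ(X, U)) (x : PtsIn U) : s → ℂ := fun a => x.1.ev U x.2 a.1

/-- If `s` generates Γ(X, U) over ℂ, each section has a continuous value function for the topology
induced by the values of `s`. -/
lemma continuous_ev_induced {U : X.Opens} {s : Set Γ(X, U)}
    (hs : @Algebra.adjoin ℂ Γ(X, U) _ _ (strU U).toAlgebra s = ⊤) (a : Γ(X, U)) :
    @Continuous _ _ (TopologicalSpace.induced (vals U s) inferInstance) _
      (fun x : PtsIn U => x.1.ev U x.2 a) := by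
  let := (strU U).toAlgebra
  let : TopologicalSpace (PtsIn U) := TopologicalSpace.induced (vals U s) inferInstance
  have ha : a ∈ Algebra.adjoin ℂ s := by rw [hs]; trivial
  induction ha using Algebra.adjoin_induction with
  | mem b hb =>
    exact (continuous_apply (⟨b, hb⟩ : s)).comp (continuous_induced_dom (f := vals U s))
  | algebraMap c =>
    have : (fun x : PtsIn U => x.1.ev U x.2 (algebraMap ℂ Γ(X, U) c)) = fun _ => c := by
      ext x
      exact ev_strU _ _ _ _
    rw [this]
    exact continuous_const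
  | add b c _ _ hb hc =>
    simp only [ev_add]
    exact hb.add hc
  | mul b c _ _ hb hc =>
    simp only [ev_mul]
    exact hb.mul hc

/-- The topology of U(ℂ) is coarser than the one induced by the values of generators. -/
lemma continuous_val_induced {U : X.Opens} (hU : IsAffineOpen U) {s : Set Γ(X, U)}
    (hs : @Algebra.adjoin ℂ Γ(X, U) _ _ (strU U).toAlgebra s = ⊤) :
    @Continuous (PtsIn U) (An.Pts X) (TopologicalSpace.induced (vals U s) inferInstance) _
      Subtype.val := by
  let := (strU U).toAlgebra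
  let : TopologicalSpace (PtsIn U) := TopologicalSpace.induced (vals U s) inferInstance
  refine continuous_generateFrom_iff.2 ?_
  rintro _ ⟨V, f, W, hW, rfl⟩
  rw [isOpen_iff_mem_nhds]
  rintro x ⟨hxV, hxW⟩
  obtain ⟨g, hgV, hxg⟩ := hU.exists_basicOpen_le (V := V) ⟨x.1.pt, hxV⟩ x.2
  have hgU : X.basicOpen g ≤ U := X.basicOpen_le g
  have hloc := hU.isLocalization_basicOpen g
  obtain ⟨⟨a, ⟨_, n, rfl⟩⟩, ha⟩ := IsLocalization.surj (M := Submonoid.powers g)
    (X.presheaf.map (homOfLE hgV).op f)
  have hval : ∀ y : PtsIn U, y.1.pt ∈ X.basicOpen g → ∀ hyV : y.1.pt ∈ V,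
      y.1.ev V hyV f = y.1.ev U y.2 a / (y.1.ev U y.2 g) ^ n := by
    intro y hy hyV
    have hne : y.1.ev U y.2 g ≠ 0 := (ev_ne_zero_iff _ _ _ _).2 hy
    have h1 := congrArg (y.1.ev (X.basicOpen g) hy) ha
    simp only at h1
    rw [ev_mul, ev_res y.1 hgV hy f] at h1
    have h2 : ∀ b : Γ(X, U), y.1.ev (X.basicOpen g) hy (algebraMap Γ(X, U) Γ(X, X.basicOpen g) b) =
        y.1.ev U y.2 b := by
      intro b
      exact ev_res y.1 hgU hy b
    rw [h2, h2, ev_pow] at h1
    rw [eq_div_iff (pow_ne_zero _ hne), h1]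
  have hne : x.1.ev U x.2 g ≠ 0 := (ev_ne_zero_iff _ _ _ _).2 hxg
  have hcg := (continuous_ev_induced hs g).continuousAt (x := x)
  have hca := (continuous_ev_induced hs a).continuousAt (x := x)
  have hcont : ContinuousAt (fun y : PtsIn U => y.1.ev U y.2 a / (y.1.ev U y.2 g) ^ n) x :=
    hca.div (hcg.pow n) (pow_ne_zero _ hne)
  have hW' : W ∈ 𝓝 (x.1.ev U x.2 a / (x.1.ev U x.2 g) ^ n) := by
    rw [← hval x hxg hxV]
    exact hW.mem_nhds hxW
  filter_upwards [hcont hW', hcg.eventually_ne hne] with y hy1 hy2
  have hyg : y.1.pt ∈ X.basicOpen g := (ev_ne_zero_iff _ _ _ _).1 hy2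
  refine ⟨hgV hyg, ?_⟩
  rw [hval y hyg (hgV hyg)]
  exact hy1

/-- If X(ℂ) is discrete then U(ℂ) is countable for each affine open U. -/
lemma countable_of_discreteTopology [LocallyOfFiniteType (X ↘ An.SC)]
    [DiscreteTopology (An.Pts X)] {U : X.Opens} (hU : IsAffineOpen U) : Countable (PtsIn U) := by
  let := (strU U).toAlgebra
  have hft : Algebra.FiniteType ℂ Γ(X, U) := finiteType_strU hU
  obtain ⟨s, hs⟩ := hft.out
  let : TopologicalSpace (PtsIn U) := TopologicalSpace.induced (vals U (s : Set Γ(X, U))) inferInstance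
  have hind : IsInducing (vals U (s : Set Γ(X, U))) := ⟨rfl⟩
  have h2 : SecondCountableTopology (PtsIn U) := hind.secondCountableTopology
  have hd : DiscreteTopology (PtsIn U) :=
    DiscreteTopology.of_continuous_injective (continuous_val_induced hU hs) Subtype.val_injective
  exact separableSpace_iff_countable.1 inferInstance

/-- If a section over an affine open `U` is not a unit then it vanishes at some complex point. -/
lemma exists_ev_eq_zero [LocallyOfFiniteType (X ↘ An.SC)] {U : X.Opens} (a : Γ(X, U))
    (ha : ¬ IsUnit a) : ∃ x : PtsIn U, x.1.ev U x.2 a = 0 := by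
  have hlc : IsLocallyClosed ((U : Set X) \ (X.basicOpen a : Set X)) := by
    rw [Set.sdiff_eq]
    exact U.2.isLocallyClosed.inter (X.basicOpen a).2.isClosed_compl.isLocallyClosed
  have hne : ((U : Set X) \ (X.basicOpen a : Set X)).Nonempty := by
    by_contra hcon
    rw [Set.not_nonempty_iff_eq_empty, Set.sdiff_eq_empty] at hcon
    apply ha
    refine RingedSpace.isUnit_of_isUnit_germ X.toRingedSpace U a fun x hx => ?_
    exact (X.mem_basicOpen a x hx).1 (hcon hx)
  obtain ⟨x, hxU, hxa⟩ := exists_pt_mem_of_isLocallyClosed hlc hne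
  exact ⟨⟨x, hxU⟩, (ev_eq_zero_iff _ _ _ _).2 hxa⟩

/-- If U(ℂ) is countable then Γ(X, U) is Artinian. -/
lemma isArtinianRing_of_countable [LocallyOfFiniteType (X ↘ An.SC)] {U : X.Opens}
    (hU : IsAffineOpen U) [Countable (PtsIn U)] : IsArtinianRing Γ(X, U) := by
  let := (strU U).toAlgebra
  have hft : Algebra.FiniteType ℂ Γ(X, U) := finiteType_strU hU
  rcases subsingleton_or_nontrivial Γ(X, U) with hsub | hnt
  · infer_instance
  obtain ⟨n, g, hginj, hgint⟩ := exists_integral_inj_algHom_of_fg ℂ Γ(X, U)
  cases n with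
  | zero =>
    have hA : IsArtinianRing (MvPolynomial (Fin 0) ℂ) :=
      (MvPolynomial.isEmptyRingEquiv ℂ (Fin 0)).symm.surjective.isArtinianRing
    have hfin : g.toRingHom.Finite := hgint.to_finite (by
      have h : algebraMap ℂ Γ(X, U) = g.toRingHom.comp (algebraMap ℂ (MvPolynomial (Fin 0) ℂ)) := by
        ext c
        exact (g.commutes c).symm
      exact (h ▸ RingHom.finiteType_algebraMap.mpr hft : RingHom.FiniteType _).of_comp_finiteType)
    algebraize [g.toRingHom]
    exact IsArtinianRing.of_finite (MvPolynomial (Fin 0) ℂ) Γ(X, U)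
  | succ n =>
    exfalso
    have hloc : IsLocalHom g.toRingHom := hgint.isLocalHom hginj
    have hsurj : Function.Surjective (fun x : PtsIn U => x.1.ev U x.2 (g (MvPolynomial.X 0))) := by
      intro c
      have hnu : ¬ IsUnit (g (MvPolynomial.X 0 - MvPolynomial.C c)) := by
        intro hu
        have h1 : IsUnit (MvPolynomial.X 0 - MvPolynomial.C c : MvPolynomial (Fin (n + 1)) ℂ) :=
          hloc.map_nonunit _ hu
        have h2 := h1.map (MvPolynomial.eval (fun _ => c))
        simp at h2
      obtain ⟨x, hx⟩ := exists_ev_eq_zero _ hnu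
      refine ⟨x, ?_⟩
      have h3 : g (MvPolynomial.C c) = strU U c := g.commutes c
      rw [map_sub, ev_sub, h3, ev_strU, sub_eq_zero] at hx
      exact hx
    have hc : Countable ℂ := hsurj.countable
    exact not_countable_complex (Set.countable_univ)

end Groth.Agent.An.H864.Discrete
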